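import Groth.Agent.Lib.RootD.Weyl
import Groth.Prelude.Def_RedSub

/-!
Bridge between `RedSub.posRoots` / `RedSub.wordPerm` and the `RootD` root combinatorics library.
-/

namespace Groth.Agent.RootComb21

open RootPairing Set Function Groth.Agent.RootDLib

variable {ι M N : Type} [AddCommGroup M] [AddCommGroup N] {P : RootPairing ι ℤ M N}

lemma isSimpleSys_support (b : P.Base) : RootD.IsSimpleSys P (b.support : Set ι) :=
  ⟨b.linearIndepOn_root, b.root_mem_or_neg_mem⟩

lemma posRoots_eq (b : P.Base) :
    RedSub.posRoots P b = RootD.posOf P (b.support : Set ι) := rfl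

lemma mem_negRoots_iff_ng (b : P.Base) (a : ι) :
    a ∈ RedSub.negRoots P b ↔ ng P a ∈ RedSub.posRoots P b := by
  change -P.root a ∈ RootD.natSpan P (b.support : Set ι) ↔
    P.root (ng P a) ∈ RootD.natSpan P (b.support : Set ι)
  rw [root_ng]

lemma mem_negRoots_iff [Finite ι] (b : P.Base) (a : ι) :
    a ∈ RedSub.negRoots P b ↔ a ∉ RedSub.posRoots P b := by
  rw [mem_negRoots_iff_ng, posRoots_eq, not_mem_posOf_iff (isSimpleSys_support b)]

lemma wordPerm_apply (l : List ι) (a : ι) : RedSub.wordPerm P l a = wprod P l • a := by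
  induction l generalizing a with
  | nil => simp [RedSub.wordPerm]
  | cons c t ih =>
    rw [wprod_cons, mul_smul, refl_smul, ← ih]
    simp [RedSub.wordPerm]

lemma wordPerm_append (l l' : List ι) :
    RedSub.wordPerm P (l ++ l') = RedSub.wordPerm P l * RedSub.wordPerm P l' := by
  simp [RedSub.wordPerm]

lemma wordPerm_inv_apply (l : List ι) (a : ι) :
    (RedSub.wordPerm P l)⁻¹ a = (wprod P l)⁻¹ • a := by
  rw [Equiv.Perm.inv_def, Equiv.symm_apply_eq, wordPerm_apply, smul_inv_smul]

lemma wordPerm_cons' (c : ι) (l : List ι) :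
    P.reflectionPerm c * RedSub.wordPerm P l = RedSub.wordPerm P (c :: l) := by
  simp [RedSub.wordPerm]

lemma root_ne_two_smul [Finite ι] [P.IsReduced] (a k : ι) : P.root k ≠ (2 : ℤ) • P.root a :=
  fun h => by
    have := torsionFree P
    exact P.nsmul_notMem_range_root (i := a) (n := 2) ⟨k, by rw [h, ← natCast_zsmul]; rfl⟩

section Length

variable [Finite ι] (b : P.Base)

/-- If `w⁻¹ c` is positive then `ℓ(w) < ℓ(s_c w)`. -/
lemma inversions_lt (l : List ι) {c : ι} (hc : c ∈ RedSub.posRoots P b)
    (hpos : (RedSub.wordPerm P l)⁻¹ c ∈ RedSub.posRoots P b) :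
    Set.ncard {a : ι | a ∈ RedSub.posRoots P b ∧ RedSub.wordPerm P l a ∈ RedSub.negRoots P b} <
      Set.ncard {a : ι | a ∈ RedSub.posRoots P b ∧
        (P.reflectionPerm c * RedSub.wordPerm P l) a ∈ RedSub.negRoots P b} := by
  classical
  have hΔ := isSimpleSys_support b
  have hS : RootD.IsPosSys P (RootD.posOf P (b.support : Set ι)) := isPosSys_posOf hΔ
  set g := wprod P l with hg
  rw [wordPerm_inv_apply, ← hg] at hpos
  set β := g⁻¹ • c with hβ
  set Δ : Set ι := (b.support : Set ι)
  simp only [posRoots_eq, mem_negRoots_iff, wordPerm_apply, Equiv.Perm.mul_apply, ← hg] at hc hpos ⊢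
  have hgβ : g • β = c := by rw [hβ, smul_inv_smul]
  have hconj : ∀ a, P.reflectionPerm c (g • a) = g • P.reflectionPerm β a := by
    intro a
    rw [← refl_smul, ← refl_smul, ← hgβ, ← conj_reflection, mul_smul, mul_smul, inv_smul_smul]
  simp only [hconj]
  let φ : ι → ι := fun a =>
    if P.reflectionPerm β a ∈ RootD.posOf P Δ then P.reflectionPerm β a else a
  set Nw : Set ι := {a | a ∈ RootD.posOf P Δ ∧ g • a ∉ RootD.posOf P Δ}
  set Nt : Set ι := {a | a ∈ RootD.posOf P Δ ∧ g • P.reflectionPerm β a ∉ RootD.posOf P Δ}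
  have hmaps : ∀ a ∈ Nw, φ a ∈ Nt := by
    rintro a ⟨ha, hga⟩
    by_cases h : P.reflectionPerm β a ∈ RootD.posOf P Δ
    · simp only [φ, if_pos h]
      exact ⟨h, by rwa [reflectionPerm_self]⟩
    · simp only [φ, if_neg h]
      refine ⟨ha, ?_⟩
      have hm : 0 < P.pairing a β := by
        by_contra hm
        push Not at hm
        refine h ?_
        change P.root _ ∈ RootD.natSpan P Δ
        rw [root_reflectionPerm, reflection_apply_root, sub_eq_add_neg, ← neg_smul]
        obtain ⟨n, hn⟩ := Int.eq_ofNat_of_zero_le (neg_nonneg.2 hm)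
        rw [hn, natCast_zsmul]
        exact add_mem ha (nsmul_mem hpos n)
      rw [not_mem_posOf_iff hΔ] at hga ⊢
      change P.root _ ∈ RootD.natSpan P Δ at hga ⊢
      obtain ⟨n, hn⟩ := Int.eq_ofNat_of_zero_le hm.le
      have he : P.root (g • P.reflectionPerm β a) = P.root (g • a) - n • P.root c := by
        rw [← smul_root, root_reflectionPerm, reflection_apply_root, smul_sub, smul_root,
          smul_comm, smul_root, hgβ, hn, natCast_zsmul]
      rw [root_ng, he, neg_sub]
      rw [root_ng] at hga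
      exact sub_eq_add_neg (n • P.root c) _ ▸ add_mem (nsmul_mem hc n) hga
  have hinj : InjOn φ Nw := by
    rintro a ⟨ha, -⟩ a' ⟨ha', -⟩ he
    by_cases h : P.reflectionPerm β a ∈ RootD.posOf P Δ <;>
      by_cases h' : P.reflectionPerm β a' ∈ RootD.posOf P Δ <;>
      simp only [φ, h, h', if_true, if_false] at he
    · exact (P.reflectionPerm β).injective he
    · exact absurd ha (by rw [← he, reflectionPerm_self] at h'; exact h')
    · exact absurd ha' (by rw [he, reflectionPerm_self] at h; exact h)
    · exact he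
  have hself : P.reflectionPerm β β ∉ RootD.posOf P Δ := hS.disjoint hpos
  have hβt : β ∈ Nt := by
    refine ⟨hpos, ?_⟩
    have : g • P.reflectionPerm β β = ng P (g • β) := smul_ng g β
    rw [this, hgβ]
    exact hS.disjoint hc
  have hβni : β ∉ φ '' Nw := by
    rintro ⟨a, ⟨ha, hga⟩, he⟩
    by_cases h : P.reflectionPerm β a ∈ RootD.posOf P Δ
    · simp only [φ, if_pos h] at he
      have h2 : a = P.reflectionPerm β β := by
        have := congrArg (P.reflectionPerm β) he
        rwa [reflectionPerm_self] at this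
      exact hself (h2 ▸ ha)
    · simp only [φ, if_neg h] at he
      exact hga (by rw [he, hgβ]; exact hc)
  calc Nw.ncard = (φ '' Nw).ncard := (ncard_image_of_injOn hinj).symm
    _ < Nt.ncard := ncard_lt_ncard
        ⟨image_subset_iff.2 hmaps, fun hsub => hβni (hsub hβt)⟩

end Length

end Groth.Agent.RootComb21
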