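import Groth.Agent.Lib.RootComb21.Basic

/-!
Strong exchange condition, and parabolic closed subsets.
-/

namespace Groth.Agent.RootComb21

open RootPairing Set Function Groth.Agent.RootDLib

variable {ι M N : Type} [AddCommGroup M] [AddCommGroup N] {P : RootPairing ι ℤ M N} [Finite ι]
  (b : P.Base)

lemma exists_switch (f : ℕ → Prop) (n : ℕ) (h0 : f 0) (hn : ¬ f n) :
    ∃ i < n, f i ∧ ¬ f (i + 1) := by
  induction n with
  | zero => exact absurd h0 hn
  | succ n ih =>
    by_cases h : f n
    · exact ⟨n, Nat.lt_succ_self n, h, hn⟩
    · obtain ⟨i, hi, h'⟩ := ih h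
      exact ⟨i, hi.trans (Nat.lt_succ_self n), h'⟩

lemma exchange_take [P.IsReduced] (l : List ι) (hl : ∀ a ∈ l, a ∈ b.support) {c : ι}
    (hc : c ∈ RedSub.posRoots P b)
    (hneg : (RedSub.wordPerm P l).symm c ∈ RedSub.negRoots P b) :
    ∃ i : ℕ, i < l.length ∧
      P.reflectionPerm c * RedSub.wordPerm P (l.take (i + 1)) = RedSub.wordPerm P (l.take i) := by
  have hΔ := isSimpleSys_support b
  let f : ℕ → Prop := fun i => (wprod P (l.take i))⁻¹ • c ∈ RootD.posOf P (b.support : Set ι)
  have h0 : f 0 := by simpa [f, posRoots_eq] using hc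
  have hn : ¬ f l.length := by
    rw [← Equiv.Perm.inv_def, wordPerm_inv_apply, mem_negRoots_iff, posRoots_eq] at hneg
    simpa [f] using hneg
  obtain ⟨i, hi, hfi, hfi'⟩ := exists_switch f _ h0 hn
  refine ⟨i, hi, ?_⟩
  have ha : l[i] ∈ (b.support : Set ι) := hl _ (List.getElem_mem hi)
  have htake : l.take (i + 1) = l.take i ++ [l[i]] := by simp
  have hk : (wprod P (l.take i))⁻¹ • c = l[i] := by
    by_contra hne
    refine hfi' ?_
    change (wprod P (l.take (i + 1)))⁻¹ • c ∈ _
    rw [htake, wprod_append, wprod_cons, wprod_nil, mul_one, mul_inv_rev, mul_smul,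
      Equiv.reflection_inv, refl_smul]
    exact reflect_mem_posOf ha hfi hne (root_ne_two_smul _ _) hΔ
  have hc' : c = wprod P (l.take i) • l[i] := by rw [← hk, smul_inv_smul]
  have hgrp : Equiv.reflection P c * wprod P (l.take (i + 1)) = wprod P (l.take i) := by
    rw [htake, wprod_append, wprod_cons, wprod_nil, mul_one, hc', ← conj_reflection]
    rw [mul_assoc, inv_mul_cancel_left, mul_assoc, refl_mul_self, mul_one]
  ext a
  rw [Equiv.Perm.mul_apply, wordPerm_apply, wordPerm_apply, ← refl_smul, ← mul_smul, hgrp]

/-- The base obtained by applying a reflection to a base. -/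
noncomputable def reflBase (i : ι) : P.Base := by
  classical
  exact
    { support := b.support.image (P.reflectionPerm i)
      linearIndepOn_root := by
        rw [Finset.coe_image]
        refine LinearIndepOn.image_of_comp (f := P.reflectionPerm i) (g := P.root) ?_
        have h := b.linearIndepOn_root.map' (P.reflection i).toLinearMap (P.reflection i).ker
        have he : P.root ∘ P.reflectionPerm i = (P.reflection i).toLinearMap ∘ P.root :=
          funext fun j => P.root_reflectionPerm i j
        rw [LinearIndepOn, he] at *
        exact h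
      linearIndepOn_coroot := by
        rw [Finset.coe_image]
        refine LinearIndepOn.image_of_comp (f := P.reflectionPerm i) (g := P.coroot) ?_
        have h := b.linearIndepOn_coroot.map' (P.coreflection i).toLinearMap (P.coreflection i).ker
        have he : P.coroot ∘ P.reflectionPerm i = (P.coreflection i).toLinearMap ∘ P.coroot :=
          funext fun j => P.coroot_reflectionPerm i j
        rw [LinearIndepOn, he] at *
        exact h
      root_mem_or_neg_mem := fun k => by
        rw [Finset.coe_image]
        refine Or.imp ?_ ?_ (b.root_mem_or_neg_mem (P.reflectionPerm i k)) <;>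
        · intro h
          have h' := AddSubmonoid.mem_map_of_mem (P.reflection i).toLinearMap.toAddMonoidHom h
          rw [AddMonoidHom.map_mclosure, ← image_comp] at h'
          convert h' using 2
          · rw [← image_comp]; ext x; simp [root_reflectionPerm]
          · simp [← root_reflectionPerm]
      coroot_mem_or_neg_mem := fun k => by
        rw [Finset.coe_image]
        refine Or.imp ?_ ?_ (b.coroot_mem_or_neg_mem (P.reflectionPerm i k)) <;>
        · intro h
          have h' := AddSubmonoid.mem_map_of_mem (P.coreflection i).toLinearMap.toAddMonoidHom h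
          rw [AddMonoidHom.map_mclosure, ← image_comp] at h'
          convert h' using 2
          · rw [← image_comp]; ext x; simp [coroot_reflectionPerm]
          · simp [← coroot_reflectionPerm] }

lemma mem_posRoots_reflBase (i k : ι) :
    k ∈ RedSub.posRoots P (reflBase b i) ↔ P.reflectionPerm i k ∈ RedSub.posRoots P b := by
  classical
  rw [posRoots_eq, posRoots_eq]
  have h : ((reflBase b i).support : Set ι) = (fun j => Equiv.reflection P i • j) '' b.support := by
    simp [reflBase, refl_smul]
  rw [h, posOf_image, mem_image_smul, Equiv.reflection_inv, refl_smul]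

/-- A closed subset `S` with `S ∪ -S` everything contains a positive system. -/
lemma exists_posRoots_subset (b : P.Base) {S : Set ι} (hcl : RootD.IsClosedSub P S)
    (hcov : ∀ a, a ∈ S ∨ ng P a ∈ S) : ∃ b' : P.Base, RedSub.posRoots P b' ⊆ S := by
  classical
  suffices ∀ (n : ℕ) (b : P.Base), Nat.card ι - (RedSub.posRoots P b ∩ S).ncard ≤ n →
      ∃ b' : P.Base, RedSub.posRoots P b' ⊆ S from this _ b le_rfl
  intro n
  induction n with
  | zero =>
    intro b hb
    refine ⟨b, fun k _ => ?_⟩
    have hle := ncard_le_ncard (subset_univ (RedSub.posRoots P b ∩ S)) (toFinite _)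
    rw [ncard_univ] at hle
    have := eq_of_subset_of_ncard_le (subset_univ (RedSub.posRoots P b ∩ S))
      (by rw [ncard_univ]; omega) (toFinite _)
    exact (this.symm ▸ mem_univ k : k ∈ RedSub.posRoots P b ∩ S).2
  | succ n ih =>
    intro b hb
    by_cases hsub : (b.support : Set ι) ⊆ S
    · exact ⟨b, fun k hk => mem_of_closed P hcl (natSpan_mono P hsub hk)⟩
    · obtain ⟨a, ha, haS⟩ := not_subset.1 hsub
      refine ih (reflBase b a) ?_
      have hnga : ng P a ∈ S := (hcov a).resolve_left haS
      have hΔ := isSimpleSys_support b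
      have hap : a ∈ RedSub.posRoots P b := mem_posOf_of_mem ha
      have hss : RedSub.posRoots P b ∩ S ⊂ RedSub.posRoots P (reflBase b a) ∩ S := by
        refine ssubset_iff_subset_ne.2 ⟨?_, ?_⟩
        · rintro k ⟨hk, hkS⟩
          refine ⟨(mem_posRoots_reflBase b a k).2 ?_, hkS⟩
          refine reflect_mem_posOf ha hk (fun h => haS (h ▸ hkS)) (fun h2 => haS ?_) hΔ
          exact hcl hkS hnga (by rw [root_ng, h2, two_smul]; abel)
        · intro he
          have : ng P a ∈ RedSub.posRoots P b ∩ S := by
            rw [he]
            exact ⟨(mem_posRoots_reflBase b a _).2 (by rwa [reflectionPerm_self]), hnga⟩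
          exact (isPosSys_posOf hΔ).disjoint hap this.1
      have := ncard_lt_ncard hss (toFinite _)
      omega

end Groth.Agent.RootComb21
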